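import Mathlib

/-!
# Approximating finitely presented affine morphisms with a constructible fibrewise property
-/

set_option autoImplicit false
set_option linter.style.haveILetI false

universe u

open CategoryTheory AlgebraicGeometry Limits TopologicalSpace TensorProduct

namespace Groth.Agent.FibreApprox

/-- A constructible set containing the image of the spectrum contains the image of that of a finitely
generated subalgebra. -/
theorem exists_subalgebra_range_subset {A : Type u} [CommRing A] (A₀ : Subalgebra ℤ A)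
    (E : Set (PrimeSpectrum A₀)) (hE : Topology.IsConstructible E)
    (h : ∀ p : PrimeSpectrum A, PrimeSpectrum.comap (algebraMap A₀ A) p ∈ E) :
    ∃ (S : Finset A), ∀ (A₁ : Subalgebra ℤ A) (hle : A₀ ≤ A₁), (S : Set A) ⊆ A₁ →
      ∀ p : PrimeSpectrum A₁, PrimeSpectrum.comap (Subalgebra.inclusion hle).toRingHom p ∈ E := by
  classical
  obtain ⟨D, hD⟩ := PrimeSpectrum.exists_constructibleSetData_iff.mpr hE.compl
  have key : ∀ C ∈ D, ∃ (m : ℕ) (c : Fin C.n → A), algebraMap A₀ A C.f ^ m = ∑ i, c i * algebraMap A₀ A (C.g i) := by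
    intro C hC
    have hrad : algebraMap A₀ A C.f ∈ (Ideal.span (Set.range fun i ↦ algebraMap A₀ A (C.g i))).radical := by
      rw [Ideal.radical_eq_sInf, Submodule.mem_sInf]
      rintro q ⟨hle, hq⟩
      by_contra hf
      have hmem : PrimeSpectrum.comap (algebraMap A₀ A) ⟨q, hq⟩ ∈ D.toSet := by
        refine Set.mem_biUnion (show C ∈ (D : Set (PrimeSpectrum.BasicConstructibleSetData A₀)) from hC) ⟨?_, ?_⟩
        · rintro _ ⟨i, rfl⟩
          exact hle (Ideal.subset_span ⟨i, rfl⟩)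
        · exact fun h' ↦ hf (h' rfl)
      rw [hD] at hmem
      exact hmem (h ⟨q, hq⟩)
    obtain ⟨m, hm⟩ := hrad
    obtain ⟨c, hc⟩ := Ideal.mem_span_range_iff_exists_fun.mp hm
    exact ⟨m, c, hc.symm⟩
  choose m c hc using key
  refine ⟨D.attach.biUnion fun C ↦ Finset.univ.image (c C.1 C.2), fun A₁ hle hS p ↦ by_contra fun hp ↦ ?_⟩
  have hp' : PrimeSpectrum.comap (Subalgebra.inclusion hle).toRingHom p ∈ D.toSet := by rw [hD]; exact hp
  obtain ⟨C, hC, hg, hf⟩ := Set.mem_iUnion₂.mp hp'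
  refine hf ?_
  rintro _ rfl
  have hmem : ∀ i, c C hC i ∈ A₁ := fun i ↦ hS (Finset.mem_coe.mpr
    (Finset.mem_biUnion.mpr ⟨⟨C, hC⟩, Finset.mem_attach _ _, Finset.mem_image_of_mem _ (Finset.mem_univ i)⟩))
  refine p.2.mem_of_pow_mem (m C hC) ?_
  have heq : (Subalgebra.inclusion hle C.f : A₁) ^ m C hC =
      ∑ i, (⟨c C hC i, hmem i⟩ : A₁) * Subalgebra.inclusion hle (C.g i) := by
    apply Subtype.ext
    push_cast
    exact hc C hC
  show (Subalgebra.inclusion hle C.f : A₁) ^ m C hC ∈ p.asIdeal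
  rw [heq]
  exact Ideal.sum_mem _ fun i _ ↦ Ideal.mul_mem_left _ _ (hg ⟨i, rfl⟩)

/-- A base change invariant constructible fibrewise property descends to a model over a finitely generated ring. -/
theorem exists_model (N : ∀ {X Y : Scheme.{u}}, (X ⟶ Y) → Y → Prop)
    (hbc : ∀ {X Y X' Y' : Scheme.{u}} {f : X ⟶ Y} {f' : X' ⟶ Y'} {g' : X' ⟶ X} {g : Y' ⟶ Y},
      LocallyOfFiniteType f → QuasiCompact f → IsPullback g' f' f g → ∀ y', N f' y' ↔ N f (g y'))
    (hcons : ∀ {X Y : Scheme.{u}} (f : X ⟶ Y), LocallyOfFinitePresentation f → QuasiCompact f → QuasiSeparated f →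
      Topology.IsLocallyConstructible {y : Y | N f y})
    {X S : Scheme.{u}} (f : X ⟶ S) [IsAffine X] [IsAffine S] [LocallyOfFinitePresentation f] (hN : ∀ s, N f s) :
    ∃ (X₀ S₀ : Scheme.{u}) (f₀ : X₀ ⟶ S₀) (g : S ⟶ S₀) (g' : X ⟶ X₀), IsAffine X₀ ∧ IsAffine S₀ ∧
      IsPullback g' f f₀ g ∧ Algebra.FiniteType ℤ Γ(S₀, ⊤) ∧ LocallyOfFiniteType f₀ ∧ ∀ s₀, N f₀ s₀ := by
  classical
  let φ : Γ(S, ⊤) ⟶ Γ(X, ⊤) := f.appTop
  have hφ : φ.hom.FinitePresentation := by
    have h := (HasRingHomProperty.iff_of_isAffine (P := @LocallyOfFinitePresentation) (f := f)).mp ‹_›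
    exact h
  letI := φ.hom.toAlgebra
  have : Algebra.FinitePresentation Γ(S, ⊤) Γ(X, ⊤) := hφ
  let P := Algebra.Presentation.ofFinitePresentation Γ(S, ⊤) Γ(X, ⊤)
  let A₀ : Subalgebra ℤ Γ(S, ⊤) := P.core
  have hA₀ : A₀.FG := ⟨P.finite_coeffs.toFinset, by rw [Set.Finite.coe_toFinset]; rfl⟩
  -- models over the subalgebras containing the coefficients
  have hmodel : ∀ A₁ : Subalgebra ℤ Γ(S, ⊤), A₀ ≤ A₁ → ∃ (B₁ : Type u) (_ : CommRing B₁) (_ : Algebra A₁ B₁),
      Algebra.FinitePresentation A₁ B₁ ∧ ∃ g' : X ⟶ Spec (CommRingCat.of B₁),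
        IsPullback g' f (Spec.map (CommRingCat.ofHom (algebraMap A₁ B₁)))
          (S.isoSpec.hom ≫ Spec.map (CommRingCat.ofHom (algebraMap A₁ Γ(S, ⊤)))) := by
    intro A₁ hle
    have : P.HasCoeffs A₁ := ⟨fun x hx ↦ ⟨⟨x, hle (P.coeffs_subset_core hx)⟩, rfl⟩⟩
    refine ⟨P.ModelOfHasCoeffs A₁, inferInstance, inferInstance, inferInstance, ?_⟩
    let e := P.tensorModelOfHasCoeffsEquiv A₁
    let ψ : CommRingCat.of (Γ(S, ⊤) ⊗[A₁] P.ModelOfHasCoeffs A₁) ≅ Γ(X, ⊤) := e.toRingEquiv.toCommRingCatIso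
    have hp := (isPullback_SpecMap_of_isPushout _ _ _ _
      (CommRingCat.isPushout_tensorProduct A₁ Γ(S, ⊤) (P.ModelOfHasCoeffs A₁))).flip
    refine ⟨X.isoSpec.hom ≫ Spec.map ψ.hom ≫
      Spec.map (CommRingCat.ofHom (Algebra.TensorProduct.includeRight (R := A₁) (A := Γ(S, ⊤)) (B := P.ModelOfHasCoeffs A₁)).toRingHom), ?_⟩
    refine hp.of_iso ((asIso (Spec.map ψ.hom)).symm ≪≫ X.isoSpec.symm) (Iso.refl _) S.isoSpec.symm (Iso.refl _) ?_ ?_ ?_ ?_
    · simp
    · rw [Iso.trans_hom, Iso.symm_hom, Iso.symm_hom, Iso.symm_hom, asIso_inv, Category.assoc, IsIso.eq_inv_comp,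
        Iso.eq_inv_comp, ← Category.assoc, ← Category.assoc, Iso.comp_inv_eq, Category.assoc, ← Spec.map_comp,
        ← Scheme.isoSpec_hom_naturality f]
      congr 2
      exact CommRingCat.hom_ext (RingHom.ext fun a ↦ e.commutes a)
    · simp
    · simp
  obtain ⟨B₀, _, _, hB₀, g₀', hsq₀⟩ := hmodel A₀ le_rfl
  let f₀ := Spec.map (CommRingCat.ofHom (algebraMap A₀ B₀))
  have hf₀ : LocallyOfFinitePresentation f₀ :=
    (HasRingHomProperty.Spec_iff (P := @LocallyOfFinitePresentation)).mpr (RingHom.finitePresentation_algebraMap.mpr hB₀)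
  let E : Set (PrimeSpectrum A₀) := {p | N f₀ p}
  have hE : Topology.IsConstructible E := (hcons f₀ hf₀ inferInstance inferInstance).isConstructible
  obtain ⟨T, hT⟩ := exists_subalgebra_range_subset A₀ E hE fun p ↦ by
    have := (hbc inferInstance inferInstance hsq₀ (S.isoSpec.inv p)).mp (hN _)
    rwa [← Scheme.Hom.comp_apply, S.isoSpec.inv_hom_id_assoc] at this
  let A₁ : Subalgebra ℤ Γ(S, ⊤) := A₀ ⊔ Algebra.adjoin ℤ (T : Set Γ(S, ⊤))
  have hA₁ : A₁.FG := hA₀.sup (Subalgebra.fg_adjoin_finset T)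
  have hle : A₀ ≤ A₁ := le_sup_left
  have hTle : (T : Set Γ(S, ⊤)) ⊆ A₁ := fun x hx ↦ (le_sup_right : _ ≤ A₁) (Algebra.subset_adjoin hx)
  -- the model over the larger algebra is the base change
  letI : Algebra A₀ A₁ := (Subalgebra.inclusion hle).toRingHom.toAlgebra
  haveI : IsScalarTower A₀ A₁ Γ(S, ⊤) := .of_algebraMap_eq fun _ ↦ rfl
  have : Algebra.FiniteType ℤ A₁ := (Subalgebra.fg_iff_finiteType A₁).mp hA₁
  let q := Spec.map (CommRingCat.ofHom (algebraMap A₀ A₁))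
  let f₁ := pullback.snd f₀ q
  have hq : (S.isoSpec.hom ≫ Spec.map (CommRingCat.ofHom (algebraMap A₁ Γ(S, ⊤)))) ≫ q =
      S.isoSpec.hom ≫ Spec.map (CommRingCat.ofHom (algebraMap A₀ Γ(S, ⊤))) := by
    rw [Category.assoc, ← Spec.map_comp, ← CommRingCat.ofHom_comp, ← IsScalarTower.algebraMap_eq]
  refine ⟨pullback f₀ q, Spec (CommRingCat.of A₁), f₁,
    S.isoSpec.hom ≫ Spec.map (CommRingCat.ofHom (algebraMap A₁ Γ(S, ⊤))),
    pullback.lift g₀' (f ≫ S.isoSpec.hom ≫ Spec.map (CommRingCat.ofHom (algebraMap A₁ Γ(S, ⊤))))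
      (by rw [hsq₀.w, Category.assoc, hq]), inferInstance, inferInstance, ?_, ?_, inferInstance, fun s₀ ↦ ?_⟩
  · refine IsPullback.of_right ?_ (pullback.lift_snd _ _ _) (IsPullback.of_hasPullback f₀ q)
    rw [pullback.lift_fst, hq]
    exact hsq₀
  · exact Algebra.FiniteType.equiv this
      (AlgEquiv.ofRingEquiv (f := (Scheme.ΓSpecIso (CommRingCat.of A₁)).commRingCatIsoToRingEquiv.symm) (fun n ↦ by simp))
  · exact (hbc (Y' := Spec (CommRingCat.of A₁)) inferInstance inferInstance (IsPullback.of_hasPullback f₀ q) s₀).mpr (hT A₁ hle hTle s₀)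

end Groth.Agent.FibreApprox
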